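import Groth.Prelude.Def_CGrpSh
import Groth.Agent.TorsPtsLib.AbSchMul
import Groth.Agent.H23.GeomConn
import Groth.Agent.H23.RigidGamma
import Groth.Agent.GrpSchLib.FibreDimGrp
import Mathlib.AlgebraicGeometry.Sites.Fpqc

/-!
Multiplication by a nonzero integer is an epimorphism of fppf sheaves on an abelian scheme.
-/

set_option autoImplicit false
set_option linter.style.haveILetI false

universe u

open CategoryTheory CategoryTheory.Limits MonoidalCategory CartesianMonoidalCategory MonObj GrpObj AlgebraicGeometry Opposite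

namespace Groth.Agent.AbSchDiv

variable {S : Scheme.{u}} (A : Over S) [GrpObj A] [IsCommMonObj A] [Smooth A.hom] [IsProper A.hom]

omit [Smooth A.hom] [IsProper A.hom] in
theorem hom_app_zsmul (n : ℤ) (T : (Over S)ᵒᵖ) (x : ToType ((CGrpSh.pts Scheme.fppfPrecoverage A).obj.obj T)) :
    (n • 𝟙 (CGrpSh.pts Scheme.fppfPrecoverage A)).hom.app T x = n • x := by
  rfl

theorem epi_zsmul (hA : ∀ s : S, ConnectedSpace ↥(A.hom.fiber s)) (n : ℤ) (hn : n ≠ 0) :
    Epi (n • 𝟙 (CGrpSh.pts Scheme.fppfPrecoverage A)) := by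
  haveI : GeometricallyConnected A.hom := H23.GeomConn.of_grp A hA
  haveI : GeometricallyReduced A.hom := H23.RigidGamma.geometricallyReduced_of_smooth A.hom
  have hg : ∀ s : S, ∃ g : ℕ, topologicalKrullDim ↥(A.hom.fiber s) = g := fun s => by
    obtain ⟨g, hg⟩ := GrpSchLib.FibreDimGrp.exists_nat A s
    exact ⟨g, ((A.hom.fiberHomeo s).isHomeomorph.topologicalKrullDim_eq).trans hg⟩
  choose g hg using hg
  obtain ⟨hfin, hflat, hsurj, -⟩ := TorsPtsLib.mul_props A g hg n hn
  haveI := hfin; haveI := hflat; haveI := hsurj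
  haveI : LocallyOfFinitePresentation (𝟙 A ^ n : A ⟶ A).left := by
    haveI : LocallyOfFinitePresentation ((𝟙 A ^ n : A ⟶ A).left ≫ A.hom) := by rw [Over.w]; infer_instance
    exact S12442.locallyOfFinitePresentation_of_comp (𝟙 A ^ n : A ⟶ A).left A.hom
  refine (Sheaf.isLocallySurjective_iff_epi' (A := AddCommGrpCat.{u + 1}) _).1 ⟨fun {U} y => ?_⟩
  let T : Over S := U
  let y' : T ⟶ A := (y : ToType ((CGrpSh.pts Scheme.fppfPrecoverage A).obj.obj (Opposite.op T))).down.toMul
  let q := Limits.pullback.fst y'.left (𝟙 A ^ n : A ⟶ A).left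
  have hq : Presieve.singleton q ∈ Scheme.fppfPrecoverage T.left := q.singleton_mem_fppfPrecoverage
  refine (GrothendieckTopology.mem_over_iff _ _).2 ?_
  refine GrothendieckTopology.superset_covering _ ?_ (Precoverage.generate_mem_toGrothendieck hq)
  rw [Sieve.generate_le_iff]
  rintro _ _ ⟨⟩
  show (Sieve.overEquiv T _).arrows q
  rw [Sieve.overEquiv_iff]
  let z : Over.mk (q ≫ T.hom) ⟶ A := Over.homMk (Limits.pullback.snd y'.left (𝟙 A ^ n : A ⟶ A).left) (by
    show _ = q ≫ T.hom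
    rw [← Over.w y', Limits.pullback.condition_assoc, Over.w])
  refine ⟨ULift.up (Additive.ofMul z), ?_⟩
  refine (hom_app_zsmul A n _ _).trans ?_
  refine ULift.ext _ _ ?_
  have hz : z ≫ (𝟙 A ^ n : A ⟶ A) = (Over.homMk q : Over.mk (q ≫ T.hom) ⟶ T) ≫ y' :=
    Over.OverMorphism.ext Limits.pullback.condition.symm
  have hpow : z ^ n = (Over.homMk q : Over.mk (q ≫ T.hom) ⟶ T) ≫ y' := by
    rw [← hz, GrpObj.comp_zpow, Category.comp_id]
  show Additive.ofMul (z ^ n) = _
  rw [hpow]
  rfl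

end Groth.Agent.AbSchDiv
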